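import Mathlib

set_option autoImplicit false
universe u

open MvPolynomial

namespace Groth.Agent.PencilEquivLib

theorem pencil (k : Type u) [Field k] :
    (¬ ∃ g h : GL (Fin 2) k,
      (C : k →+* MvPolynomial (Fin 3) k).mapMatrix g.val * !![X 1, 0; X 0, X 2] *
        (C : k →+* MvPolynomial (Fin 3) k).mapMatrix h.val = !![X 2, 0; X 0, X 1]) ∧
    (∀ α β γ : k, α ≠ 0 → ∃ g h : GL (Fin 2) k,
      (C : k →+* MvPolynomial (Fin 3) k).mapMatrix g.val *
          !![X 1, 0; C α * X 0 + C β * X 1 + C γ * X 2, X 2] *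
        (C : k →+* MvPolynomial (Fin 3) k).mapMatrix h.val = !![X 1, 0; X 0, X 2]) := by
  refine ⟨?_, ?_⟩
  · rintro ⟨g, h, e⟩
    have ev : ∀ (v : Fin 3 → k) (i j : Fin 2),
        ((g.val * !![v 1, 0; v 0, v 2]) * h.val) i j = (!![v 2, 0; v 0, v 1] : Matrix (Fin 2) (Fin 2) k) i j := by
      intro v i j
      have := congrArg (fun M => (eval v).mapMatrix M i j) e
      simp only [map_mul] at this
      have hc : ∀ M : Matrix (Fin 2) (Fin 2) k, (eval v).mapMatrix ((C : k →+* MvPolynomial (Fin 3) k).mapMatrix M) = M := by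
        intro M; ext a b; simp
      rw [hc, hc] at this
      have h1 : (eval v).mapMatrix !![X 1, 0; X 0, X 2] = !![v 1, 0; v 0, v 2] := by
        ext a b; fin_cases a <;> fin_cases b <;> simp
      have h2 : (eval v).mapMatrix !![X 2, 0; X 0, X 1] = !![v 2, 0; v 0, v 1] := by
        ext a b; fin_cases a <;> fin_cases b <;> simp
      rwa [h1, h2] at this
    have a1 := ev ![0, 1, 0] 1 1
    have a2 := ev ![0, 1, 0] 1 0
    have a3 := ev ![1, 0, 0] 1 0
    simp [Matrix.mul_apply, Fin.sum_univ_two] at a1 a2 a3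
    rcases a2 with h0 | h0 <;> simp [h0] at a1 a3
  · intro α β γ hα
    refine ⟨Matrix.GeneralLinearGroup.mkOfDetNeZero !![1, 0; -β / α, 1 / α] (by simp [Matrix.det_fin_two, hα]),
      Matrix.GeneralLinearGroup.mkOfDetNeZero !![1, 0; -γ, α] (by simp [Matrix.det_fin_two, hα]), ?_⟩
    have hC : (C α⁻¹ : MvPolynomial (Fin 3) k) * C α = 1 := by rw [← map_mul, inv_mul_cancel₀ hα, map_one]
    refine Matrix.ext fun i j => ?_
    fin_cases i <;> fin_cases j <;>
      simp [Matrix.mul_apply, Fin.sum_univ_two, Matrix.GeneralLinearGroup.mkOfDetNeZero, div_eq_mul_inv, map_mul]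
    · linear_combination (X 0 : MvPolynomial (Fin 3) k) * hC
    · linear_combination (X 2 : MvPolynomial (Fin 3) k) * hC

end Groth.Agent.PencilEquivLib
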